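import Mathlib

/-!
# Irreducible modules for a group of prime order over a prime field

`T` of order `p` acting irreducibly and nontrivially on an `𝔽_q`-vector space `V`: then
`|V| = q ^ e` with `e` the multiplicative order of `q` modulo `p`.
-/

set_option autoImplicit false

namespace Cfsg.Agent.Lib.FGS.IrredModule

open Polynomial

section

variable {V : Type*} [AddCommGroup V] [Finite V] {p q : ℕ} [hp : Fact p.Prime] [hq : Fact q.Prime]
variable [Module (ZMod q) V]

/-- Lower bound by counting orbits: `|V| ≡ 1 (mod p)`. -/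
theorem card_modEq_one (T : V →ₗ[ZMod q] V) (hT : T ^ p = 1) (hfix : ∀ v, T v = v → v = 0) :
    Nat.card V ≡ 1 [MOD p] := by
  classical
  have := Fintype.ofFinite V
  let f : Function.End V := fun v => T v
  have hf : f ^ p ^ 1 = 1 := by
    have h1 : (⇑(T ^ p) : V → V) = (T : V → V)^[p] := Module.End.coe_pow T p
    have h2 : (f ^ p : Function.End V) = f^[p] :=
      hom_coe_pow (fun g : Function.End V ↦ g) rfl (fun g h ↦ rfl) f p
    rw [pow_one, h2]
    show (T : V → V)^[p] = _
    rw [← h1, hT]
    rfl
  have h := Equiv.Perm.card_fixedPoints_modEq hf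
  have h0 : Fintype.card (Function.fixedPoints f) = 1 := by
    rw [Fintype.card_eq_one_iff]
    refine ⟨⟨0, ?_⟩, ?_⟩
    · show T 0 = 0
      simp
    rintro ⟨v, hv⟩
    apply Subtype.ext
    exact hfix v hv
  have h3 : Fintype.card V ≡ 1 [MOD p] := by
    rw [← h0]
    convert h
  rwa [Nat.card_eq_fintype_card]

/-- Upper bound by the Frobenius. -/
theorem card_le_of_irreducible (T : V →ₗ[ZMod q] V) {N : ℕ} (e : ℕ) (he : e ≠ 0) (hN : N = q ^ e)
    (hTN : T ^ N = T)
    (hirr : ∀ W : Submodule (ZMod q) V, (∀ w ∈ W, T w ∈ W) → W = ⊥ ∨ W = ⊤)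
    (hV : Nontrivial V) : Nat.card V ≤ N := by
  classical
  subst hN
  set K := ZMod q with hK
  set φ : K[X] →+* Module.End K V := (aeval T : K[X] →ₐ[K] Module.End K V).toRingHom with hφ
  have hφa : ∀ f, φ f = aeval T f := fun f => rfl
  have hcomm : ∀ (f : K[X]) (v : V), (φ f) (T v) = T ((φ f) v) := by
    intro f v
    have h1 : φ f * φ X = φ X * φ f := by
      rw [← map_mul, ← map_mul, mul_comm]
    have h2 : φ X = T := by simp [hφa]
    rw [h2] at h1
    exact LinearMap.congr_fun h1 v
  have hinj : ∀ f : K[X], φ f ≠ 0 → Function.Injective (φ f) := by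
    intro f hf
    have hW := hirr (LinearMap.ker (φ f)) (by
      intro w hw
      rw [LinearMap.mem_ker] at hw ⊢
      rw [hcomm, hw, map_zero])
    rcases hW with hW | hW
    · exact LinearMap.ker_eq_bot.mp hW
    · exfalso
      apply hf
      exact LinearMap.ker_eq_top.mp hW
  set I := RingHom.ker φ with hI
  have hprime : I.IsPrime := by
    constructor
    · intro h
      have h1 : (1 : K[X]) ∈ I := by rw [h]; trivial
      rw [hI, RingHom.mem_ker, map_one] at h1
      obtain ⟨v, hv⟩ := exists_ne (0 : V)
      apply hv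
      have := LinearMap.congr_fun h1 v
      simpa using this
    · intro f g hfg
      rw [hI, RingHom.mem_ker, map_mul] at hfg
      by_cases hf : φ f = 0
      · left
        rw [hI, RingHom.mem_ker]
        exact hf
      · right
        rw [hI, RingHom.mem_ker]
        apply LinearMap.ext
        intro v
        apply hinj f hf
        have := LinearMap.congr_fun hfg v
        simpa using this
  set R := K[X] ⧸ I with hR
  have hdom : IsDomain R := Ideal.Quotient.isDomain I
  have hEnd : Finite (Module.End K V) :=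
    Finite.of_injective (fun f : Module.End K V => (f : V → V)) DFunLike.coe_injective
  let ι : R →+* Module.End K V := φ.kerLift
  have hι : Function.Injective ι := RingHom.kerLift_injective φ
  have hRfin : Finite R := Finite.of_injective ι hι
  have := Fintype.ofFinite R
  have hιmk : ∀ f : K[X], ι (Ideal.Quotient.mk I f) = φ f := fun f => RingHom.kerLift_mk φ f
  -- every element is fixed by the Frobenius power
  have hpow : ∀ (k : ℕ) (S : Module.End K V) (f : K[X]), aeval S (f ^ q ^ k) = aeval (S ^ q ^ k) f := by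
    intro k
    induction k with
    | zero => intro S f; simp
    | succ k ih =>
      intro S f
      rw [pow_succ' q k, pow_mul f, ih, ← ZMod.expand_card, expand_aeval, ← pow_mul, mul_comm (q ^ k) q]
  have hfrob : ∀ r : R, r ^ q ^ e = r := by
    intro r
    obtain ⟨f, rfl⟩ := Ideal.Quotient.mk_surjective r
    apply hι
    rw [map_pow, hιmk, hφa, ← map_pow, hpow, hTN]
  -- count roots
  have hq1 : 1 < q := hq.out.one_lt
  have hcount : Fintype.card R ≤ q ^ e := by
    have hN2 : 1 < q ^ e := Nat.one_lt_pow he hq1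
    have hdeg : (X ^ q ^ e - X : R[X]).natDegree = q ^ e := by
      rw [natDegree_sub_eq_left_of_natDegree_lt] <;> simp [hN2]
    have hne : (X ^ q ^ e - X : R[X]) ≠ 0 := by
      intro h0
      rw [h0, natDegree_zero] at hdeg
      omega
    have hsub : (Finset.univ : Finset R).val ⊆ (X ^ q ^ e - X : R[X]).roots := by
      intro r _
      rw [mem_roots hne, IsRoot.def]
      simp [hfrob]
    have := card_le_degree_of_subset_roots hsub
    rwa [hdeg] at this
  -- surjection
  obtain ⟨v₀, hv₀⟩ := exists_ne (0 : V)
  let L : K[X] →ₗ[K] V :=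
    (LinearMap.applyₗ v₀).comp (aeval T : K[X] →ₐ[K] Module.End K V).toLinearMap
  have hL : ∀ f, L f = (φ f) v₀ := fun f => rfl
  have hrange : LinearMap.range L = ⊤ := by
    have h1 := hirr (LinearMap.range L) (by
      rintro _ ⟨f, rfl⟩
      refine ⟨X * f, ?_⟩
      rw [hL, hL, map_mul]
      have h2 : φ X = T := by simp [hφa]
      rw [h2]
      rfl)
    rcases h1 with h1 | h1
    · exfalso
      apply hv₀
      have h2 : L 1 ∈ LinearMap.range L := ⟨1, rfl⟩
      rw [h1] at h2
      have h3 : L 1 = v₀ := by simp [hL]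
      rw [← h3]
      simpa using h2
    · exact h1
  let g : R → V := fun r => (ι r) v₀
  have hg : Function.Surjective g := by
    intro v
    have : v ∈ LinearMap.range L := by rw [hrange]; trivial
    obtain ⟨f, rfl⟩ := this
    refine ⟨Ideal.Quotient.mk I f, ?_⟩
    show (ι (Ideal.Quotient.mk I f)) v₀ = L f
    rw [hιmk, hL]
  calc Nat.card V ≤ Nat.card R := Nat.card_le_card_of_surjective g hg
    _ = Fintype.card R := Nat.card_eq_fintype_card
    _ ≤ _ := hcount

/-- The main theorem. -/
theorem card_eq_of_irreducible (T : V →ₗ[ZMod q] V) (hT : T ^ p = 1) (hT1 : T ≠ 1)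
    (hirr : ∀ W : Submodule (ZMod q) V, (∀ w ∈ W, T w ∈ W) → W = ⊥ ∨ W = ⊤) :
    Nat.card V = q ^ orderOf (q : ZMod p) := by
  classical
  have hfix : ∀ v, T v = v → v = 0 := by
    intro v hv
    have h1 := hirr (LinearMap.ker (T - 1)) (by
      intro w hw
      rw [LinearMap.mem_ker] at hw ⊢
      have h2 : T w = w := by
        have : T w - w = 0 := by simpa using hw
        exact sub_eq_zero.mp this
      rw [h2]
      simpa using hw)
    rcases h1 with h1 | h1
    · have h2 : v ∈ LinearMap.ker (T - 1) := by
        rw [LinearMap.mem_ker]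
        simp [hv]
      rw [h1] at h2
      simpa using h2
    · exfalso
      apply hT1
      have h2 := LinearMap.ker_eq_top.mp h1
      exact sub_eq_zero.mp h2
  have hV : Nontrivial V := by
    by_contra hcon
    rw [not_nontrivial_iff_subsingleton] at hcon
    apply hT1
    apply LinearMap.ext
    intro v
    exact Subsingleton.elim _ _
  have hmod := card_modEq_one T hT hfix
  have := Fintype.ofFinite V
  set d := Module.finrank (ZMod q) V with hd
  have hcard : Nat.card V = q ^ d := by
    rw [Nat.card_eq_fintype_card, Module.card_eq_pow_finrank (K := ZMod q) (V := V), ZMod.card]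
  have hd0 : d ≠ 0 := by
    intro h0
    rw [h0, pow_zero] at hcard
    have := (Nat.card_eq_one_iff_unique.mp hcard).1
    exact not_subsingleton_iff_nontrivial.mpr hV this
  have hz : (q : ZMod p) ^ d = 1 := by
    have h1 := (ZMod.natCast_eq_natCast_iff (q ^ d) 1 p).mpr (hcard ▸ hmod)
    simpa using h1
  have hdvd : orderOf (q : ZMod p) ∣ d := orderOf_dvd_of_pow_eq_one hz
  have he0 : orderOf (q : ZMod p) ≠ 0 := by
    intro h0
    rw [h0, zero_dvd_iff] at hdvd
    exact hd0 hdvd
  set e := orderOf (q : ZMod p) with he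
  have hle := Nat.le_of_dvd (Nat.pos_of_ne_zero hd0) hdvd
  have hq1 : 1 < q := hq.out.one_lt
  have h1 : q ^ e ≤ Nat.card V := by
    rw [hcard]
    exact Nat.pow_le_pow_right hq.out.pos hle
  -- `T ^ (q ^ e) = T`
  have hTN : T ^ (q ^ e) = T := by
    have h2 : (q : ZMod p) ^ e = 1 := pow_orderOf_eq_one _
    have h3 : ((q ^ e : ℕ) : ZMod p) = ((1 : ℕ) : ZMod p) := by simpa using h2
    have h4 := (ZMod.natCast_eq_natCast_iff _ _ _).mp h3
    have hpos : 1 ≤ q ^ e := Nat.one_le_pow _ _ hq.out.pos
    obtain ⟨m, hm⟩ := (Nat.modEq_iff_dvd' hpos).mp h4.symm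
    have : q ^ e = 1 + p * m := by omega
    rw [this, pow_add, pow_one, pow_mul, hT, one_pow, mul_one]
  have h2 := card_le_of_irreducible T e he0 rfl hTN hirr hV
  exact le_antisymm h2 h1

end

/-- Additive version. -/
theorem card_eq_add {V : Type*} [AddCommGroup V] [Finite V] {p q : ℕ} [hp : Fact p.Prime]
    [hq : Fact q.Prime] [Module (ZMod q) V] (S : V →+ V) (hS : ∀ v, (S^[p]) v = v)
    (hS1 : ∃ v, S v ≠ v)
    (hirr : ∀ W : AddSubgroup V, (∀ w ∈ W, S w ∈ W) → W = ⊥ ∨ W = ⊤) :
    Nat.card V = q ^ orderOf (q : ZMod p) := by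
  let T : V →ₗ[ZMod q] V := S.toZModLinearMap q
  have hTval : ∀ v, T v = S v := fun v => rfl
  have hTpow : ∀ (k : ℕ) (v : V), (T ^ k) v = (S^[k]) v := by
    intro k
    induction k with
    | zero => intro v; rfl
    | succ k ih =>
      intro v
      rw [pow_succ', Module.End.mul_apply, hTval, ih, Function.iterate_succ_apply']
  apply card_eq_of_irreducible T
  · apply LinearMap.ext
    intro v
    rw [hTpow, hS]
    rfl
  · obtain ⟨v, hv⟩ := hS1
    intro h
    apply hv
    rw [← hTval, h]
    rfl
  · intro W hW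
    rcases hirr W.toAddSubgroup (fun w hw => hW w hw) with h | h
    · left
      rw [eq_bot_iff]
      intro v hv
      have h1 : v ∈ W.toAddSubgroup := hv
      rw [h, AddSubgroup.mem_bot] at h1
      rw [Submodule.mem_bot]
      exact h1
    · right
      rw [eq_top_iff]
      intro v _
      have h1 : v ∈ W.toAddSubgroup := by rw [h]; trivial
      exact h1

/-- Multiplicative version. -/
theorem card_of_irreducible_comm {C : Type*} [CommGroup C] [Finite C] {p q : ℕ} [hp : Fact p.Prime]
    [hq : Fact q.Prime] (hCq : ∀ a : C, a ^ q = 1) (t : C →* C) (htp : ∀ a, (t^[p]) a = a)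
    (ht1 : ∃ a, t a ≠ a)
    (hirr : ∀ B : Subgroup C, (∀ b ∈ B, t b ∈ B) → B = ⊥ ∨ B = ⊤) :
    Nat.card C = q ^ orderOf (q : ZMod p) := by
  have hexp : ∀ v : Additive C, q • v = 0 := by
    intro v
    exact congrArg Additive.ofMul (hCq v.toMul)
  letI hmod : Module (ZMod q) (Additive C) := AddCommGroup.zmodModule hexp
  let S : Additive C →+ Additive C := MonoidHom.toAdditive t
  have hSit : ∀ (k : ℕ) (y : C), (S^[k]) (Additive.ofMul y) = Additive.ofMul ((t^[k]) y) := by
    intro k
    induction k with
    | zero => intro y; rfl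
    | succ k ih =>
      intro y
      rw [Function.iterate_succ_apply, Function.iterate_succ_apply]
      exact ih _
  have h := card_eq_add (V := Additive C) (p := p) (q := q) S (fun v => by
      have := hSit p v.toMul
      rw [htp] at this
      exact this) (by
      obtain ⟨a, ha⟩ := ht1
      refine ⟨Additive.ofMul a, ?_⟩
      intro h
      exact ha (congrArg Additive.toMul h)) (by
      intro W hW
      let B : Subgroup C :=
        { carrier := {g | Additive.ofMul g ∈ W}
          mul_mem' := fun ha hb => W.add_mem ha hb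
          one_mem' := W.zero_mem
          inv_mem' := fun ha => W.neg_mem ha }
      have hBt : ∀ b ∈ B, t b ∈ B := fun b hb => hW _ hb
      rcases hirr B hBt with h | h
      · left
        rw [eq_bot_iff]
        intro v hv
        have h1 : Additive.toMul v ∈ B := hv
        rw [h, Subgroup.mem_bot] at h1
        rw [AddSubgroup.mem_bot]
        exact congrArg Additive.ofMul h1
      · right
        rw [eq_top_iff]
        intro v _
        have h1 : Additive.toMul v ∈ B := by rw [h]; trivial
        exact h1)
  exact h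

/-- Version for an elementary abelian normal subgroup of a group. -/
theorem card_of_irreducible_action {G : Type*} [Group G] [Finite G] {p q : ℕ} [hp : Fact p.Prime]
    [hq : Fact q.Prime] (A : Subgroup G) [hAn : A.Normal]
    (hAc : ∀ a ∈ A, ∀ b ∈ A, a * b = b * a) (hAq : ∀ a ∈ A, a ^ q = 1) (x : G) (hxp : x ^ p = 1)
    (hxA : ∃ a ∈ A, x * a * x⁻¹ ≠ a)
    (hirr : ∀ B : Subgroup G, B ≤ A → (∀ b ∈ B, x * b * x⁻¹ ∈ B) → B = ⊥ ∨ B = A) :
    Nat.card A = q ^ orderOf (q : ZMod p) := by
  classical
  letI : CommGroup A := { (inferInstance : Group A) with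
    mul_comm := fun a b => Subtype.ext (hAc a a.2 b b.2) }
  let t : A →* A := (MulAut.conjNormal x : MulAut A).toMonoidHom
  have htval : ∀ a : A, ((t a : A) : G) = x * a * x⁻¹ := fun a => by
    simp [t]
  have hit : ∀ (k : ℕ) (a : A), (((t^[k]) a : A) : G) = x ^ k * a * (x ^ k)⁻¹ := by
    intro k
    induction k with
    | zero => intro a; simp
    | succ k ih =>
      intro a
      rw [Function.iterate_succ_apply', htval, ih, pow_succ']
      group
  apply card_of_irreducible_comm (p := p) (fun a => Subtype.ext (hAq a a.2)) t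
  · intro a
    apply Subtype.ext
    rw [hit, hxp]
    simp
  · obtain ⟨a, ha, hne⟩ := hxA
    refine ⟨⟨a, ha⟩, ?_⟩
    intro h
    apply hne
    rw [← htval ⟨a, ha⟩, h]
  · intro B hB
    have hBm : ∀ b ∈ B.map A.subtype, x * b * x⁻¹ ∈ B.map A.subtype := by
      rintro _ ⟨b, hb, rfl⟩
      exact ⟨t b, hB b hb, htval b⟩
    rcases hirr (B.map A.subtype) (Subgroup.map_subtype_le B) hBm with h | h
    · left
      rw [eq_bot_iff]
      intro b hb
      have : (b : G) ∈ B.map A.subtype := ⟨b, hb, rfl⟩
      rw [h, Subgroup.mem_bot] at this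
      rw [Subgroup.mem_bot]
      exact Subtype.ext this
    · right
      rw [eq_top_iff]
      intro b _
      have : (b : G) ∈ B.map A.subtype := by rw [h]; exact b.2
      obtain ⟨c, hc, hcb⟩ := this
      have : c = b := Subtype.ext hcb
      rwa [← this]

end Cfsg.Agent.Lib.FGS.IrredModule
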