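import Cfsg.Agent.Lib.FGS.IrredModule
import Cfsg.Agent.Lib.FGS.SylowMax
import Cfsg.Agent.Lib.QuadAct.Basic
import Cfsg.Agent.Lib.Core.Basic
import Cfsg.Prelude.Def_Transfer

/-!
# The final structure step for minimal non-`p`-closed and minimal non-`p`-exponent-closed groups
-/

set_option autoImplicit false

namespace Cfsg.Agent.Lib.FGS.MinNon

open Subgroup
open scoped Pointwise

variable {G : Type*} [Group G] [Finite G] {p : ℕ} [hp : Fact p.Prime]

/-- An `x`-invariant Sylow `q`-subgroup of a normal subgroup `N` of order prime to `p`, for a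
`p`-element `x` in a Sylow `p`-subgroup `P` with `P N = G`. -/
theorem exists_invariant_sylow (P : Sylow p G) (N : Subgroup G) [hNn : N.Normal]
    (hdisj : ¬ p ∣ Nat.card N) (q : ℕ) [hq : Fact q.Prime] :
    ∃ Q : Sylow q N, (∀ x ∈ (P : Subgroup G),
      x ∈ normalizer (((Q : Subgroup N).map N.subtype : Subgroup G) : Set G)) := by
  obtain ⟨R⟩ : Nonempty (Sylow q N) := inferInstance
  set F := normalizer (((R : Subgroup N).map N.subtype : Subgroup G) : Set G) with hF
  have hsup : F ⊔ N = ⊤ := Sylow.normalizer_sup_eq_top R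
  have hFN : F ≤ normalizer (N : Set G) := by
    rw [normalizer_eq_top]
    exact le_top
  have hprod := Cfsg.Agent.Lib.QuadAct.Basic.card_sup_mul_card_inf_of_le_normalizer F N hFN
  rw [hsup] at hprod
  have htop : Nat.card (⊤ : Subgroup G) = Nat.card G := Nat.card_congr Subgroup.topEquiv.toEquiv
  rw [htop, ← card_mul_index F] at hprod
  have hidx : F.index * Nat.card (F ⊓ N : Subgroup G) = Nat.card N := by
    apply Nat.eq_of_mul_eq_mul_left (Nat.card_pos (α := F))
    rw [← hprod]
    ring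
  have hnd : ¬ p ∣ F.index := fun h => hdisj (hidx ▸ h.mul_right _)
  obtain ⟨g, hg⟩ := Cfsg.Agent.Lib.FGS.SylowMax.exists_conj_le_of_not_dvd_index hnd P
  -- transport `R` by `g⁻¹`
  let σ : N ≃* N := MulAut.conjNormal g⁻¹
  have hσ : ∀ r : N, ((σ r : N) : G) = g⁻¹ * r * g := fun r => by
    simp [σ]
  have hQp : IsPGroup q ((R : Subgroup N).map σ.toMonoidHom) := R.2.map _
  have hQi : ¬ q ∣ ((R : Subgroup N).map σ.toMonoidHom).index := by
    have h1 : ((R : Subgroup N).map σ.toMonoidHom).index = (R : Subgroup N).index := by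
      exact Subgroup.index_map_of_bijective σ.bijective _
    rw [h1]
    exact R.not_dvd_index
  refine ⟨hQp.toSylow hQi, ?_⟩
  intro x hx
  rw [mem_normalizer_iff]
  have hgx := hg x hx
  have key : ∀ h : G, h ∈ ((R : Subgroup N).map σ.toMonoidHom).map N.subtype ↔
      g * h * g⁻¹ ∈ (R : Subgroup N).map N.subtype := by
    intro h
    constructor
    · rintro ⟨_, ⟨r, hr, rfl⟩, rfl⟩
      refine ⟨r, hr, ?_⟩
      show (r : G) = g * ((σ r : N) : G) * g⁻¹
      rw [hσ]
      group
    · rintro ⟨r, hr, hre⟩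
      refine ⟨σ r, ⟨r, hr, rfl⟩, ?_⟩
      show ((σ r : N) : G) = h
      rw [hσ]
      have : (r : G) = g * h * g⁻¹ := hre
      rw [this]
      group
  intro h
  show h ∈ ((R : Subgroup N).map σ.toMonoidHom).map N.subtype ↔
    x * h * x⁻¹ ∈ ((R : Subgroup N).map σ.toMonoidHom).map N.subtype
  rw [key, key]
  have h1 := (mem_normalizer_iff.mp hgx (g * h * g⁻¹))
  have e : g * x * g⁻¹ * (g * h * g⁻¹) * (g * x * g⁻¹)⁻¹ = g * (x * h * x⁻¹) * g⁻¹ := by group
  rw [e] at h1
  exact h1

/-- The common final structure. -/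
theorem structure_of_minimal (P : Sylow p G) (N : Subgroup G) [hNn : N.Normal]
    (hN1 : N ≠ ⊥) (hmin : ∀ B : Subgroup G, B.Normal → B ≤ N → B = ⊥ ∨ B = N)
    (hPN : (P : Subgroup G) ⊔ N = ⊤) (hdisj : ¬ p ∣ Nat.card N)
    (hcent : ∀ y ∈ (P : Subgroup G), ∀ U : Subgroup G, U ≤ N → y ∈ normalizer (U : Set G) →
      U ⊔ zpowers y ≠ ⊤ → ∀ u ∈ U, y * u * y⁻¹ = u)
    (hnc : ∃ y ∈ (P : Subgroup G), ∃ n ∈ N, y * n * y⁻¹ ≠ n)
    (hZ : ∀ z ∈ (P : Subgroup G), (∀ g : G, g * z = z * g) → z = 1) :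
    ∃ q : ℕ, q.Prime ∧ q ≠ p ∧ Nat.card G = p * q ^ orderOf (q : ZMod p) ∧
      Nat.card N = q ^ orderOf (q : ZMod p) ∧ Cfsg.IsElementaryAbelian q N := by
  classical
  have hpp := hp.out
  have htopc : Nat.card (⊤ : Subgroup G) = Nat.card G := Nat.card_congr Subgroup.topEquiv.toEquiv
  have hle_norm : ∀ X : Subgroup G, X ≤ normalizer (N : Set G) := fun X => by
    rw [normalizer_eq_top]; exact le_top
  -- elements of `N` of `p`-power order are trivial
  have hNp : ∀ (k : ℕ) (n : G), n ∈ N → n ^ p ^ k = 1 → n = 1 := by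
    intro k n hn hnk
    have h1 : orderOf n ∣ p ^ k := orderOf_dvd_of_pow_eq_one hnk
    have h2 : orderOf n ∣ Nat.card N := Subgroup.orderOf_dvd_natCard N hn
    have h3 : Nat.Coprime (p ^ k) (Nat.card N) :=
      Nat.Coprime.pow_left k ((Nat.Prime.coprime_iff_not_dvd hpp).mpr hdisj)
    have h4 : orderOf n = 1 := Nat.dvd_one.mp (h3 ▸ Nat.dvd_gcd h1 h2)
    exact orderOf_eq_one_iff.mp h4
  have hinfP : ∀ X : Subgroup G, X ≤ P → X ⊓ N = ⊥ := by
    intro X hX
    rw [eq_bot_iff]
    intro z hz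
    obtain ⟨k, hk⟩ := P.2 ⟨z, hX hz.1⟩
    have hk' : z ^ p ^ k = 1 := congrArg Subtype.val hk
    rw [mem_bot]
    exact hNp k z hz.2 hk'
  -- the order of `G`
  have hcardP : Nat.card G = Nat.card P * Nat.card N := by
    have h1 := Cfsg.Agent.Lib.QuadAct.Basic.card_sup_mul_card_inf_of_le_normalizer (P : Subgroup G) N (hle_norm _)
    rw [hPN, htopc, hinfP _ le_rfl, Subgroup.card_bot, mul_one] at h1
    exact h1
  have hcardX : ∀ y ∈ (P : Subgroup G), zpowers y ⊔ N = ⊤ → Nat.card G = orderOf y * Nat.card N := by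
    intro y hy hsup
    have hle : zpowers y ≤ (P : Subgroup G) := by rwa [zpowers_le]
    have h1 := Cfsg.Agent.Lib.QuadAct.Basic.card_sup_mul_card_inf_of_le_normalizer (zpowers y) N (hle_norm _)
    rw [hsup, htopc, hinfP _ hle, Subgroup.card_bot, mul_one, Nat.card_zpowers] at h1
    exact h1
  obtain ⟨x, hxP, n₀, hn₀, hne₀⟩ := hnc
  -- `x` together with `N` generates
  have hxN : x ∈ normalizer (N : Set G) := by
    rw [normalizer_eq_top]; exact mem_top _
  have hsupx : N ⊔ zpowers x = ⊤ := by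
    by_contra hcon
    exact hne₀ (hcent x hxP N le_rfl hxN hcon n₀ hn₀)
  have hcardx := hcardX x hxP (by rwa [sup_comm])
  have hNpos : 0 < Nat.card N := Nat.card_pos
  have hordx : orderOf x = Nat.card P := by
    rw [hcardP] at hcardx
    exact (Nat.eq_of_mul_eq_mul_right hNpos hcardx).symm
  have hPx : (P : Subgroup G) = zpowers x := by
    symm
    apply eq_of_le_of_card_ge
    · rwa [zpowers_le]
    · rw [Nat.card_zpowers, hordx]
  have hx1 : x ≠ 1 := by
    rintro rfl
    simp at hne₀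
  obtain ⟨k, hk⟩ := (IsPGroup.iff_card.mp P.2)
  have hkne : k ≠ 0 := by
    rintro rfl
    rw [pow_zero, ← hordx, orderOf_eq_one_iff] at hk
    exact hx1 hk
  -- `x ^ p = 1`
  have hxp : x ^ p = 1 := by
    have hzP : x ^ p ∈ (P : Subgroup G) := Subgroup.pow_mem _ hxP p
    apply hZ _ hzP
    -- `x ^ p` centralizes `N`
    have hord2 : orderOf (x ^ p) ≠ orderOf x := by
      have h1 : p ∣ orderOf x := by
        rw [hordx, hk]
        exact dvd_pow_self p hkne
      rw [orderOf_pow_of_dvd hpp.ne_zero h1]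
      have hpos : 0 < orderOf x := orderOf_pos x
      exact (Nat.div_lt_self hpos hpp.one_lt).ne
    have hc1 : ∀ u ∈ N, x ^ p * u * (x ^ p)⁻¹ = u := by
      apply hcent (x ^ p) hzP N le_rfl (by rw [normalizer_eq_top]; exact mem_top _)
      intro hcon
      apply hord2
      have h1 := hcardX _ hzP (by rwa [sup_comm])
      rw [hcardx] at h1
      exact (Nat.eq_of_mul_eq_mul_right hNpos h1).symm
    have hle : (P : Subgroup G) ⊔ N ≤ centralizer ({x ^ p} : Set G) := by
      apply sup_le
      · rw [hPx, zpowers_le, mem_centralizer_singleton_iff]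
        exact ((Commute.refl x).pow_right p).eq
      · intro u hu
        rw [mem_centralizer_singleton_iff]
        have := hc1 u hu
        rw [mul_inv_eq_iff_eq_mul] at this
        exact this.symm
    intro g
    have := hle (hPN ▸ mem_top g)
    rw [mem_centralizer_singleton_iff] at this
    exact this
  have hordp : orderOf x = p := orderOf_eq_prime hxp hx1
  have hG : Nat.card G = p * Nat.card N := by rw [hcardx, hordp]
  -- `N` is a `q`-group
  have hexq : ∃ q : ℕ, ∃ hq : Fact q.Prime, ∃ Q : Sylow q N,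
      x ∈ normalizer (((Q : Subgroup N).map N.subtype : Subgroup G) : Set G) ∧
      ((Q : Subgroup N).map N.subtype) ⊔ zpowers x = ⊤ := by
    by_contra hcon
    push Not at hcon
    apply hne₀
    have hCtop : (centralizer ({x} : Set G)).subgroupOf N = ⊤ := by
      apply Cfsg.Agent.Lib.Core.Basic.eq_top_of_forall_sylow_le
      intro q _
      obtain ⟨Q, hQ⟩ := exists_invariant_sylow P N hdisj q
      refine ⟨Q, ?_⟩
      intro u hu
      have h1 := hcent x hxP _ (map_subtype_le _) (hQ x hxP) (hcon q ‹_› Q (hQ x hxP))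
        (u : G) ⟨u, hu, rfl⟩
      rw [mem_subgroupOf, mem_centralizer_singleton_iff]
      rw [mul_inv_eq_iff_eq_mul] at h1
      exact h1.symm
    have h1 : (⟨n₀, hn₀⟩ : N) ∈ (centralizer ({x} : Set G)).subgroupOf N := by
      rw [hCtop]; exact mem_top _
    rw [mem_subgroupOf, mem_centralizer_singleton_iff] at h1
    rw [mul_inv_eq_iff_eq_mul]
    exact h1.symm
  obtain ⟨q, hq, Q, hQn, hQsup⟩ := hexq
  -- `N` equals the image of `Q`
  have hNq : (Q : Subgroup N).map N.subtype = N := by
    apply eq_of_le_of_card_ge (map_subtype_le _)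
    have hxQ : zpowers x ≤ normalizer (((Q : Subgroup N).map N.subtype : Subgroup G) : Set G) := by
      rwa [zpowers_le]
    have h1 := Cfsg.Agent.Lib.QuadAct.Basic.card_sup_mul_card_inf_of_le_normalizer (zpowers x) _ hxQ
    rw [sup_comm, hQsup, htopc, Nat.card_zpowers, hordp] at h1
    have h2 : zpowers x ⊓ (Q : Subgroup N).map N.subtype = ⊥ := by
      rw [eq_bot_iff]
      intro z hz
      have h3 : z ∈ zpowers x ⊓ N := ⟨hz.1, map_subtype_le _ hz.2⟩
      rw [hinfP _ (by rwa [zpowers_le])] at h3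
      exact h3
    rw [h2, Subgroup.card_bot, mul_one, hG] at h1
    exact (Nat.eq_of_mul_eq_mul_left hpp.pos h1).le
  have hNqg : IsPGroup q N := by
    have h1 : IsPGroup q ((Q : Subgroup N).map N.subtype) := Q.2.map _
    rw [hNq] at h1
    exact h1
  have hqne : q ≠ p := by
    rintro rfl
    obtain ⟨m, hm⟩ := IsPGroup.iff_card.mp hNqg
    have hm0 : m = 0 := by
      by_contra h0
      apply hdisj
      rw [hm]
      exact dvd_pow_self _ h0
    rw [hm0, pow_zero, Subgroup.card_eq_one] at hm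
    exact hN1 hm
  have hNnt : Nontrivial N := by
    obtain ⟨y, hy, hy1⟩ := N.bot_or_exists_ne_one.resolve_left hN1
    exact ⟨⟨y, hy⟩, 1, fun h => hy1 (congrArg Subtype.val h)⟩
  -- `N` is abelian
  have hNab : N ≤ centralizer (N : Set G) := by
    have hCn : (N ⊓ centralizer (N : Set G)).Normal := inferInstance
    rcases hmin _ hCn inf_le_left with h1 | h1
    · exfalso
      have := hNqg.center_nontrivial
      obtain ⟨z, hz⟩ := exists_ne (1 : center N)
      have hzm : ((z : N) : G) ∈ N ⊓ centralizer (N : Set G) := by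
        refine Subgroup.mem_inf.mpr ⟨(z : N).2, ?_⟩
        rw [mem_centralizer_iff]
        intro n hn
        have := (mem_center_iff.mp z.2) ⟨n, hn⟩
        exact congrArg Subtype.val this
      rw [h1, mem_bot] at hzm
      exact hz (Subtype.ext (Subtype.ext hzm))
    · exact inf_eq_left.mp h1
  have hNc : ∀ a ∈ N, ∀ b ∈ N, a * b = b * a := by
    intro a ha b hb
    exact (mem_centralizer_iff.mp (hNab hb)) a ha
  -- `N` has exponent `q`
  have hNexp : ∀ a ∈ N, a ^ q = 1 := by
    let B : Subgroup G :=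
      { carrier := {g | g ∈ N ∧ g ^ q = 1}
        mul_mem' := by
          rintro a b ⟨ha, ha'⟩ ⟨hb, hb'⟩
          refine ⟨mul_mem ha hb, ?_⟩
          have : Commute a b := hNc a ha b hb
          rw [this.mul_pow, ha', hb', one_mul]
        one_mem' := ⟨one_mem _, one_pow _⟩
        inv_mem' := by
          rintro a ⟨ha, ha'⟩
          exact ⟨inv_mem ha, by rw [inv_pow, ha', inv_one]⟩ }
    have hBn : B.Normal := by
      constructor
      rintro a ⟨ha, ha'⟩ g
      refine ⟨hNn.conj_mem a ha g, ?_⟩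
      rw [conj_pow, ha']
      simp
    have hBne : B ≠ ⊥ := by
      have hqd : q ∣ Nat.card N := by
        obtain ⟨m, hm⟩ := IsPGroup.iff_card.mp hNqg
        have hm0 : m ≠ 0 := by
          rintro rfl
          rw [pow_zero, Subgroup.card_eq_one] at hm
          exact hN1 hm
        rw [hm]
        exact dvd_pow_self _ hm0
      obtain ⟨y, hy⟩ := exists_prime_orderOf_dvd_card' q hqd
      intro h
      have h1 : ((y : N) : G) ∈ B := ⟨y.2, by
        have := pow_orderOf_eq_one y
        rw [hy] at this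
        exact congrArg Subtype.val this⟩
      rw [h, mem_bot] at h1
      have h2 : y = 1 := Subtype.ext h1
      rw [h2, orderOf_one] at hy
      exact hq.out.one_lt.ne hy
    rcases hmin B hBn (fun g hg => hg.1) with h1 | h1
    · exact absurd h1 hBne
    · intro a ha
      rw [← h1] at ha
      exact ha.2
  have hirr : ∀ B : Subgroup G, B ≤ N → (∀ b ∈ B, x * b * x⁻¹ ∈ B) → B = ⊥ ∨ B = N := by
    intro B hBA hB
    apply hmin B ?_ hBA
    have hpowk : ∀ (k : ℕ), ∀ b ∈ B, x ^ k * b * (x ^ k)⁻¹ ∈ B := by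
      intro k
      induction k with
      | zero => intro b hb; simpa using hb
      | succ k ih =>
        intro b hb
        have h1 := hB _ (ih b hb)
        rw [pow_succ']
        have e : x * x ^ k * b * (x * x ^ k)⁻¹ = x * (x ^ k * b * (x ^ k)⁻¹) * x⁻¹ := by group
        rw [e]
        exact h1
    have hxN' : x ∈ normalizer (B : Set G) := by
      rw [mem_normalizer_iff]
      intro h
      refine ⟨hB h, ?_⟩
      intro hh
      have h1 := hpowk (p - 1) _ hh
      have e : x ^ (p - 1) * (x * h * x⁻¹) * (x ^ (p - 1))⁻¹ = h := by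
        have h2 : x ^ (p - 1) * x = 1 := by
          rw [← pow_succ, Nat.sub_add_cancel hpp.one_le, hxp]
        calc x ^ (p - 1) * (x * h * x⁻¹) * (x ^ (p - 1))⁻¹
            = (x ^ (p - 1) * x) * h * (x ^ (p - 1) * x)⁻¹ := by group
          _ = h := by rw [h2]; group
      rwa [e] at h1
    have hAN : N ≤ normalizer (B : Set G) := by
      intro a ha
      rw [mem_normalizer_iff]
      intro h
      constructor
      · intro hh
        rw [hNc a ha h (hBA hh)]
        simpa using hh
      · intro hh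
        have h1 : a * h * a⁻¹ ∈ N := hBA hh
        have h2 : h ∈ N := by
          have e : h = a⁻¹ * (a * h * a⁻¹) * a := by group
          rw [e]
          exact mul_mem (mul_mem (inv_mem ha) h1) ha
        rwa [hNc a ha h h2, mul_inv_cancel_right] at hh
    have htop : normalizer (B : Set G) = ⊤ := by
      rw [eq_top_iff, ← hsupx]
      exact sup_le hAN (by rwa [zpowers_le])
    exact normalizer_eq_top_iff.mp htop
  have hcardN := Cfsg.Agent.Lib.FGS.IrredModule.card_of_irreducible_action N hNc hNexp x hxp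
    ⟨n₀, hn₀, hne₀⟩ hirr
  refine ⟨q, hq.out, hqne, ?_, hcardN, ?_⟩
  · rw [hG, hcardN]
  · refine ⟨⟨⟨?_⟩⟩, hNexp⟩
    intro a b
    exact Subtype.ext (hNc a a.2 b b.2)

omit [Finite G] hp in
/-- A minimal normal subgroup in a non-simple nontrivial finite group, proper. -/
theorem exists_minimal_normal [Finite G] (hnt : Nontrivial G) (hns : ¬ IsSimpleGroup G) :
    ∃ N : Subgroup G, N.Normal ∧ N ≠ ⊥ ∧ N ≠ ⊤ ∧ ∀ B : Subgroup G, B.Normal → B ≤ N → B = ⊥ ∨ B = N := by
  classical
  obtain ⟨N₀, hN₀n, hN₀b, hN₀t⟩ : ∃ N₀ : Subgroup G, N₀.Normal ∧ N₀ ≠ ⊥ ∧ N₀ ≠ ⊤ := by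
    by_contra hcon
    push Not at hcon
    apply hns
    refine ⟨?_⟩
    intro H hH
    by_cases h : H = ⊥
    · exact Or.inl h
    · exact Or.inr (hcon H hH h)
  have hne : ({B : Subgroup G | B.Normal ∧ B ≠ ⊥ ∧ B ≤ N₀}).Nonempty := ⟨N₀, hN₀n, hN₀b, le_rfl⟩
  obtain ⟨N, hN⟩ := (Set.toFinite _).exists_minimal hne
  obtain ⟨⟨hNn, hNb, hNle⟩, hNmin⟩ := hN
  refine ⟨N, hNn, hNb, ?_, ?_⟩
  · intro h
    apply hN₀t
    rw [eq_top_iff, ← h]
    exact hNle
  · intro B hBn hBN
    by_cases h : B = ⊥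
    · exact Or.inl h
    · right
      exact le_antisymm hBN (hNmin ⟨hBn, h, hBN.trans hNle⟩ hBN)

end Cfsg.Agent.Lib.FGS.MinNon
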